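-- Sub-project [PDER+] of OPAR (S5989): the glue (helper57).  All packages of
-- `Cfsg.Agent.Lib.Helper57.OPar.Defs` together with helper23's [ODDOMEGA] give `PDerPlus`.
import Mathlib
import Cfsg.Agent.Lib.Helper57.OPar.Defs
import Cfsg.Agent.Lib.Helper23.OHyp.Defs

set_option autoImplicit false
open scoped MatrixGroups
open Matrix

namespace Cfsg.Agent.Lib.Helper57.OPar

universe u

/-- The polar form of a nondegenerate quadratic form as a bilinear map. -/
noncomputable def polB {F : Type u} [Field F] {ι : Type} [Fintype ι] [DecidableEq ι]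
    (Q : (ι → F) → F) (hQ : Cfsg.Geo.IsNondegenerateQuadraticForm Q) :
    (ι → F) →ₗ[F] (ι → F) →ₗ[F] F :=
  LinearMap.mk₂ F (fun u v => QuadraticMap.polar Q u v)
    (fun x y v => hQ.polar_bilinear.add_left x y v)
    (fun c x v => by simpa [smul_eq_mul] using hQ.polar_bilinear.smul_left c x v)
    (fun v x y => hQ.polar_bilinear.add_right v x y)
    (fun c v x => by simpa [smul_eq_mul] using hQ.polar_bilinear.smul_right c v x)

theorem polB_apply {F : Type u} [Field F] {ι : Type} [Fintype ι] [DecidableEq ι]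
    (Q : (ι → F) → F) (hQ : Cfsg.Geo.IsNondegenerateQuadraticForm Q) (u v : ι → F) :
    polB Q hQ u v = QuadraticMap.polar Q u v := rfl

theorem polB_iso {F : Type u} [Field F] {ι : Type} [Fintype ι] [DecidableEq ι]
    (Q : (ι → F) → F) (hQ : Cfsg.Geo.IsNondegenerateQuadraticForm Q) (X : Matrix ι ι F)
    (hX : ∀ v, Q (X *ᵥ v) = Q v) (u v : ι → F) :
    polB Q hQ (u + Matrix.toLin' (X - 1) u) (v + Matrix.toLin' (X - 1) v) = polB Q hQ u v := by
  have e : ∀ w : ι → F, w + Matrix.toLin' (X - 1) w = X *ᵥ w := by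
    intro w
    rw [Matrix.toLin'_apply, Matrix.sub_mulVec, Matrix.one_mulVec]
    abel
  rw [e, e, polB_apply, polB_apply]
  unfold QuadraticMap.polar
  rw [← Matrix.mulVec_add, hX, hX, hX]

theorem two_ne_zero_of_char {F : Type u} [Field F] {p : ℕ} [Fact p.Prime] [CharP F p]
    (hp2 : p ≠ 2) : (2 : F) ≠ 0 := by
  intro h
  have h' : ((2 : ℕ) : F) = 0 := by exact_mod_cast h
  rw [CharP.cast_eq_zero_iff F p] at h'
  have := (Nat.prime_dvd_prime_iff_eq (Fact.out : p.Prime) Nat.prime_two).1 h'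
  exact hp2 this

/-- The glue: a derangement from a matrix `M` with the data of case (a) or case (b). -/
theorem pderPlus_of (hOO : Cfsg.Agent.Lib.Helper23.OHyp.PkgOddOmega.{u})
    (hUA : PkgUA.{u}) (hUB : PkgUB.{u}) (hQ : PkgQndPlus.{u}) (hIso : PkgIso.{u})
    (hOrd : PkgOrd.{u}) (hNil : PkgNil.{u}) (hKA : PkgKA.{u}) (hKB : PkgKB.{u}) :
    PDerPlus.{u} := by
  intro F _ _ p _ _ hp2 d m hd hm
  have h2 : (2 : F) ≠ 0 := two_ne_zero_of_char hp2
  have hQd := hQ F h2 d
  have hpodd : Odd p := (Fact.out : p.Prime).odd_of_ne_two hp2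
  -- a common tail: from `M` (cube zero, nonzero) and the dimension restriction, the element
  have tail : ∀ M : Matrix (Fin d) (Fin d) F, M * M * M = 0 → M ≠ 0 →
      (∀ W : Submodule F (Fin d ⊕ Fin d → F), Module.finrank F ↥W = m →
        (∀ w ∈ W, Matrix.toLin' (xM M - 1) w ∈ W) →
        (∀ w ∈ W, w ≠ 0 → ∃ v ∈ W, polB _ hQd w v ≠ 0) → False) →
      ∃ x : GL (Fin d ⊕ Fin d) F, x ∈ Cfsg.Geo.omegaGL (Cfsg.quadFormPlus d F) ∧ orderOf x = p ∧
        ∀ W : Submodule F (Fin d ⊕ Fin d → F), Module.finrank F ↥W = m →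
          Cfsg.Geo.IsNondegenerateOn (QuadraticMap.polar (Cfsg.quadFormPlus d F)) W →
          W.map (Matrix.toLin' (x : Matrix (Fin d ⊕ Fin d) (Fin d ⊕ Fin d) F)) ≤ W → False := by
    intro M hM3 hM0 hno
    obtain ⟨x, hx, hord⟩ := hOrd F p hp2 d M hM3 hM0
    have hxiso : x ∈ Cfsg.isometryGroup F (Cfsg.quadFormPlus d F) := by
      intro u _
      show Cfsg.quadFormPlus d F ((x : Matrix (Fin d ⊕ Fin d) (Fin d ⊕ Fin d) F) *ᵥ u) = _
      rw [hx]
      exact hIso F d M hM3 u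
    refine ⟨x, hOO F (Fin d ⊕ Fin d) _ hQd h2 x hxiso (by rw [hord]; exact hpodd), hord, ?_⟩
    intro W hWm hWnd hWinv
    refine hno W hWm ?_ ?_
    · intro w hw
      rw [Matrix.toLin'_apply, Matrix.sub_mulVec, Matrix.one_mulVec]
      refine W.sub_mem ?_ hw
      apply hWinv
      rw [hx]
      exact ⟨w, hw, by rw [Matrix.toLin'_apply]⟩
    · intro w hw hw0
      obtain ⟨v, hv, hne⟩ := (hWnd w hw hw0).2
      exact ⟨v, hv, hne⟩
  obtain ⟨h, hh⟩ : ∃ h, d = 2 * h ∨ d = 2 * h + 1 := by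
    rcases Nat.even_or_odd' d with ⟨h, hh⟩
    exact ⟨h, hh⟩
  have hh1 : 1 ≤ h := by omega
  by_cases hcase : d = 2 * h + 1 ∧ m % 4 = 1
  · -- case (b)
    obtain ⟨hM3, hM0, hker, hrk⟩ := hKB F d h hh1 hcase.1
    refine tail (sh F d h d) hM3 hM0 ?_
    intro W hWm hWinv hWnd
    have hN3 := (hNil F d (sh F d h d)).1 hM3
    obtain ⟨a, a₃, hdim, ha₃⟩ := hUB F (Fin d ⊕ Fin d → F) h2 (polB _ hQd)
      (Matrix.toLin' (xM (sh F d h d) - 1))
      (fun u v => by rw [polB_apply, polB_apply, QuadraticMap.polar_comm])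
      (polB_iso _ hQd _ (hIso F d _ hM3))
      (fun v => by
        rw [Matrix.toLin'_apply, Matrix.toLin'_apply, Matrix.toLin'_apply, Matrix.mulVec_mulVec,
          Matrix.mulVec_mulVec, hN3, Matrix.zero_mulVec])
      (fun u v hu hv => by
        rw [polB_apply]
        exact hker u v (by rw [← Matrix.toLin'_apply]; exact hu)
          (by rw [← Matrix.toLin'_apply]; exact hv))
      (by rw [← Matrix.toLin'_mul]; exact hrk)
      W hWinv hWnd
    have : Odd m := hm
    rcases this with ⟨k, hk⟩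
    omega
  · -- case (a)
    obtain ⟨hM2, hM0, φ, hφ⟩ := hKA F d h hh1 hh
    have hM3 : sh F d h h * sh F d h h * sh F d h h = 0 := by rw [hM2, Matrix.zero_mul]
    refine tail (sh F d h h) hM3 hM0 ?_
    intro W hWm hWinv hWnd
    have hN2 := (hNil F d (sh F d h h)).2 hM2
    obtain ⟨a, w₁, hdim, hw₁⟩ := hUA F (Fin d ⊕ Fin d → F) h2 (polB _ hQd)
      (Matrix.toLin' (xM (sh F d h h) - 1))
      (fun u v => by rw [polB_apply, polB_apply, QuadraticMap.polar_comm])
      (polB_iso _ hQd _ (hIso F d _ hM3))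
      (fun v => by
        rw [Matrix.toLin'_apply, Matrix.toLin'_apply, Matrix.mulVec_mulVec, hN2,
          Matrix.zero_mulVec])
      (2 * (d - 2 * h)) φ
      (fun v hv hφv => by
        obtain ⟨u, hu⟩ := hφ v (by rw [← Matrix.toLin'_apply]; exact hv) hφv
        exact ⟨u, by rw [Matrix.toLin'_apply]; exact hu⟩)
      W hWinv hWnd
    have : Odd m := hm
    rcases this with ⟨k, hk⟩
    omega

end Cfsg.Agent.Lib.Helper57.OPar
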